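import Cfsg.Agent.CosetEnum.Present
import Cfsg.Agent.Schur.PackedPerm
import Cfsg.Agent.HN133.PermData
import Cfsg.Prelude.Def_Spor_HN

/-!
The group on x, y, z presented by the first ten relators of the presentation of the Harada–Norton
group, with its maps to that group, to the group of order two and to permutations of 100 vertices.
-/

set_option autoImplicit false
set_option maxRecDepth 100000

namespace CfsgLib.HN133

open CfsgLib.CosetEnum CfsgLib.Schur Cfsg

/-- six letters from three elements; the other letters mean 1 -/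
def let6 {G : Type*} [Group G] (a b c : G) : ℕ → G :=
  letterVal 6 fun x =>
    bif x == 0 then a else bif x == 1 then a⁻¹ else bif x == 2 then b else bif x == 3 then b⁻¹
      else bif x == 4 then c else c⁻¹

theorem let6_inv {G : Type*} [Group G] (a b c : G) (x : ℕ) :
    let6 a b c (x ^^^ 1) = (let6 a b c x)⁻¹ := by
  refine letterVal_inv 6 _ (fun x => x ^^^ 1) ?_ ?_ x
  · intro y hy; interval_cases y <;> simp
  · intro y hy h
    apply hy
    have e : y ^^^ 1 ^^^ 1 = y := by rw [Nat.xor_assoc, Nat.xor_self, Nat.xor_zero]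
    change y ^^^ 1 < 6 at h
    generalize y ^^^ 1 = k at h e
    subst e
    interval_cases k <;> decide

theorem let6_map {G H : Type*} [Group G] [Group H] (φ : G →* H) (a b c : G) :
    (fun x => φ (let6 a b c x)) = let6 (φ a) (φ b) (φ c) := by
  funext x
  simp only [let6, letterVal]
  split_ifs with h
  · interval_cases x <;> simp
  · simp

theorem map_gword_let6 {G H : Type*} [Group G] [Group H] (φ : G →* H) (a b c : G) (w : List ℕ) :
    φ (gword (let6 a b c) w) = gword (let6 (φ a) (φ b) (φ c)) w := by
  rw [gword_map, let6_map]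

/-- a word as an element of the free group -/
def fgWord (w : List ℕ) : FreeGroup (Fin 3) :=
  gword (let6 (FreeGroup.of 0) (FreeGroup.of 1) (FreeGroup.of 2)) w

/-- the group on x, y, z -/
abbrev P0 : Type := PresentedGroup {r : FreeGroup (Fin 3) | ∃ w ∈ pRels, fgWord w = r}

/-- the generator x -/
abbrev gx : P0 := PresentedGroup.of 0
/-- the generator y -/
abbrev gy : P0 := PresentedGroup.of 1
/-- the generator z -/
abbrev gz : P0 := PresentedGroup.of 2

/-- the six letters -/
abbrev u : ℕ → P0 := let6 gx gy gz

theorem u_rels : ∀ w ∈ pRels, gword u w = 1 := by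
  intro w hw
  have h : PresentedGroup.mk {r : FreeGroup (Fin 3) | ∃ w ∈ pRels, fgWord w = r} (fgWord w) = 1 :=
    PresentedGroup.one_of_mem ⟨w, hw, rfl⟩
  rwa [fgWord, map_gword_let6] at h

section Lift

variable {G : Type*} [Group G] {a b c : G}

/-- the homomorphism given by three elements satisfying the relators -/
def lift3 (h : ∀ w ∈ pRels, gword (let6 a b c) w = 1) : P0 →* G :=
  PresentedGroup.toGroup (f := ![a, b, c]) fun r hr => by
    obtain ⟨w, hw, rfl⟩ := hr
    rw [fgWord, map_gword_let6]
    simpa using h w hw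

variable (h : ∀ w ∈ pRels, gword (let6 a b c) w = 1)

theorem lift3_x : lift3 h gx = a := PresentedGroup.toGroup.of _
theorem lift3_y : lift3 h gy = b := PresentedGroup.toGroup.of _
theorem lift3_z : lift3 h gz = c := PresentedGroup.toGroup.of _

theorem lift3_word (w : List ℕ) : lift3 h (gword u w) = gword (let6 a b c) w := by
  rw [map_gword_let6, lift3_x, lift3_y, lift3_z]

end Lift

theorem closure_gens : Subgroup.closure {gx, gy, gz} = (⊤ : Subgroup P0) := by
  rw [eq_top_iff, ← PresentedGroup.closure_range_of, Subgroup.closure_le]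
  rintro _ ⟨i, rfl⟩
  fin_cases i <;> exact Subgroup.subset_closure (by simp [gx, gy, gz])

/-- generator numbers -/
def encP : Spor.HN.Gen → ℕ
  | .x => 0
  | .y => 2
  | .z => 4
  | .t => 6

/-- the generators of the Harada–Norton group -/
abbrev hx : Spor.HN := PresentedGroup.of Spor.HN.Gen.x
/-- the generators of the Harada–Norton group -/
abbrev hy : Spor.HN := PresentedGroup.of Spor.HN.Gen.y
/-- the generators of the Harada–Norton group -/
abbrev hz : Spor.HN := PresentedGroup.of Spor.HN.Gen.z

theorem rels_of_extra {G : Type*} [Group G] (φ : FreeGroup Spor.HN.Gen →* G)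
    (h : ∀ r ∈ Spor.HN.extra.take 10, φ r = 1) :
    ∀ w ∈ pRels, gword (let6 (φ Spor.HN.x) (φ Spor.HN.y) (φ Spor.HN.z)) w = 1 := by
  have key : wordsFrom (fun x => x ^^^ 1)
      ((Spor.HN.extra.take 10).map (encWord encP fun x => x ^^^ 1)) pRels = true := by decide +kernel
  refine gword_of_wordsFrom _ _ (let6_inv _ _ _) key fun w hw => ?_
  obtain ⟨r, hr, rfl⟩ := List.mem_map.1 hw
  have hall : ∀ p ∈ r.toWord, p.1 ≠ Spor.HN.Gen.t := by
    have : ((Spor.HN.extra.take 10).all fun r => r.toWord.all fun p =>
        decide (p.1 ≠ Spor.HN.Gen.t)) = true := by decide +kernel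
    intro p hp
    exact of_decide_eq_true (List.all_eq_true.1 (List.all_eq_true.1 this r hr) p hp)
  let v : ℕ → G := fun x => if x = 6 then φ Spor.HN.t else if x = 7 then (φ Spor.HN.t)⁻¹
    else let6 (φ Spor.HN.x) (φ Spor.HN.y) (φ Spor.HN.z) x
  have e := map_eq_gword encP (fun x => x ^^^ 1) φ v
    (fun a => by cases a <;> rfl) (fun a => by cases a <;> rfl) r
  rw [h r hr] at e
  rw [gword_congr _ v fun x hx' => ?_]
  · exact e.symm
  · simp only [encWord, List.mem_map] at hx'
    obtain ⟨p, hp, rfl⟩ := hx'
    have := hall p hp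
    obtain ⟨a, b⟩ := p
    cases a <;> cases b <;> first | rfl | exact absurd rfl this

theorem hn_rels : ∀ w ∈ pRels, gword (let6 hx hy hz) w = 1 :=
  rels_of_extra (PresentedGroup.mk (Spor.coxRelators Spor.HN.edges ∪ {r | r ∈ Spor.HN.extra}))
    fun r hr => PresentedGroup.one_of_mem (Or.inr (List.mem_of_mem_take hr))

/-- the map to the Harada–Norton group -/
noncomputable def toHN : P0 →* Spor.HN := lift3 hn_rels

/-- the group of order two -/
abbrev C2 : Type := Multiplicative (ZMod 2)

/-- the parity of the number of letters z -/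
def parity (w : List ℕ) : ZMod 2 := (w.countP fun x => Nat.ble 4 x : ℕ)

theorem gword_parity : ∀ (w : List ℕ), (∀ x ∈ w, x < 6) →
    gword (let6 (1 : C2) 1 (Multiplicative.ofAdd 1)) w = Multiplicative.ofAdd (parity w)
  | [], _ => rfl
  | x :: w, h => by
    rw [gword_cons, gword_parity w fun y hy => h y (List.mem_cons_of_mem _ hy)]
    have hx := h x List.mem_cons_self
    simp only [parity, List.countP_cons, Nat.cast_add]
    interval_cases x <;>
      simp [let6, letterVal, ← ofAdd_add, ← ofAdd_neg, add_comm, Nat.ble_eq, ZModModule.neg_eq_self]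

theorem rels_shape : ∀ w ∈ pRels, (∀ x ∈ w, x < 6) ∧ parity w = 0 := by
  have key : pRels.all (fun w => w.all (fun x => decide (x < 6)) && (parity w == 0)) = true := by
    decide +kernel
  intro w hw
  have h := List.all_eq_true.1 key w hw
  rw [Bool.and_eq_true, beq_iff_eq] at h
  exact ⟨fun x hx => of_decide_eq_true (List.all_eq_true.1 h.1 x hx), h.2⟩

theorem sgn_rels : ∀ w ∈ pRels, gword (let6 (1 : C2) 1 (Multiplicative.ofAdd 1)) w = 1 :=
  fun w hw => by rw [gword_parity w (rels_shape w hw).1, (rels_shape w hw).2]; rfl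

/-- the character with z odd -/
noncomputable def sgn : P0 →* C2 := lift3 sgn_rels

theorem sgn_word {w : List ℕ} (hw : ∀ x ∈ w, x < 6) :
    sgn (gword u w) = Multiplicative.ofAdd (parity w) := by
  rw [sgn, lift3_word, gword_parity w hw]

theorem ptables_ok : PackedPerm.tablesOK 100 pFwd pBwd = true ∧ pFwd.length = 6 := by decide +kernel

/-- a letter on the vertices -/
def pperm (x : ℕ) : Equiv.Perm (Fin 100) := PackedPerm.toPerm ptables_ok.1 x

theorem pperm_checks : (pRels ++ [[0, 1], [2, 3], [4, 5]]).all (fun w =>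
    w.all (fun x => decide (x < pFwd.length)) &&
      (List.range 100).all fun i => PackedPerm.act pFwd w i == i) = true := by decide +kernel

theorem pperm_word_one {w : List ℕ} (hw : w ∈ pRels ++ [[0, 1], [2, 3], [4, 5]]) :
    gword pperm w = 1 := by
  have h := List.all_eq_true.1 pperm_checks w hw
  rw [Bool.and_eq_true] at h
  exact Equiv.ext fun i => Fin.ext (by
    show ((gword (PackedPerm.toPerm ptables_ok.1) w) i).val = i.val
    rw [PackedPerm.word_apply ptables_ok.1 h.1]
    exact beq_iff_eq.1 (List.all_eq_true.1 h.2 i (List.mem_range.2 i.2)))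

theorem let6_pperm {x : ℕ} (hx : x < 6) : let6 (pperm 0) (pperm 2) (pperm 4) x = pperm x := by
  have h : ∀ a b : ℕ, [a, b] ∈ pRels ++ [[0, 1], [2, 3], [4, 5]] → (pperm a)⁻¹ = pperm b :=
    fun a b hm => inv_eq_of_mul_eq_one_right (by simpa [gword] using pperm_word_one hm)
  rw [let6, letterVal_lt _ hx]
  interval_cases x <;> first | rfl | exact h _ _ (by decide +kernel)

theorem pperm_rels : ∀ w ∈ pRels, gword (let6 (pperm 0) (pperm 2) (pperm 4)) w = 1 := fun w hw => by
  rw [gword_congr _ pperm fun x hx => let6_pperm ((rels_shape w hw).1 x hx)]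
  exact pperm_word_one (List.mem_append_left _ hw)

/-- the action on the vertices -/
noncomputable def toPerm100 : P0 →* Equiv.Perm (Fin 100) := lift3 pperm_rels

theorem toPerm100_apply {w : List ℕ} (hw : ∀ x ∈ w, x < 6) (i : Fin 100) :
    (toPerm100 (gword u w) i).val = PackedPerm.act pFwd w i := by
  rw [toPerm100, lift3_word, gword_congr _ pperm fun x hx => let6_pperm (hw x hx)]
  exact PackedPerm.word_apply ptables_ok.1
    (List.all_eq_true.2 fun x hx => decide_eq_true (ptables_ok.2.symm ▸ hw x hx)) i

end CfsgLib.HN133
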