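import Cfsg.Agent.HN133.Basic
import Cfsg.Agent.CosetEnum.Orbit
import Cfsg.Agent.HN133.CertA.Upper
import Cfsg.Agent.HN133.CertP.Upper
import Cfsg.Agent.HN133.CertQ.Upper
import Cfsg.Agent.HN133.OrbA.Upper
import Cfsg.Agent.HN133.OrbB.Upper

/-!
Bounds in the group on x, y, z from the coset certificates: `x ^ 4 = 1`, the square of x is central,
and the order is at most `352 * 63000 * 24`.
-/

set_option autoImplicit false
set_option maxRecDepth 100000

namespace CfsgLib.HN133

open CfsgLib.CosetEnum

theorem gword_pow {G : Type*} [Group G] (g : ℕ → G) (v : List ℕ) :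
    ∀ k : ℕ, gword g (List.replicate k v).flatten = gword g v ^ k
  | 0 => by simp [gword]
  | k + 1 => by
    rw [List.replicate_succ, List.flatten_cons, Schur.PackedPerm.gword_concat, gword_pow g v k,
      pow_succ']

/-- all rotations of the words -/
def rots (ws : List (List ℕ)) : List (List ℕ) :=
  ws.flatMap fun w => (List.range w.length).map fun k => w.drop k ++ w.take k

theorem gword_rots {G : Type*} [Group G] (g : ℕ → G) {ws : List (List ℕ)}
    (h : ∀ w ∈ ws, gword g w = 1) : ∀ w ∈ rots ws, gword g w = 1 := by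
  intro w hw
  simp only [rots, List.mem_flatMap, List.mem_map, List.mem_range] at hw
  obtain ⟨v, hv, k, -, rfl⟩ := hw
  rw [Schur.PackedPerm.gword_concat, mul_eq_one_comm, ← Schur.PackedPerm.gword_concat,
    List.take_append_drop]
  exact h v hv

theorem hrel_of {G : Type*} [Group G] (g : ℕ → G) (hg : ∀ x, g (x ^^^ 1) = (g x)⁻¹)
    {base words : List (List ℕ)} {nr : ℕ}
    (key : wordsFrom (fun x => x ^^^ 1) (rots base) (words.take nr) = true)
    (hb : ∀ w ∈ base, gword g w = 1) :
    ∀ (k : ℕ) (w : List ℕ), words[k]? = some w → k < nr → gword g w = 1 := fun k _ hk hlt =>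
  gword_of_wordsFrom g _ hg key (gword_rots g hb) _
    (List.mem_of_getElem? (i := k) (by rw [List.getElem?_take, if_pos hlt, hk]))

theorem hsub_of {G : Type*} [Group G] (g : ℕ → G) (H : Subgroup G) {words : List (List ℕ)}
    {nr : ℕ} (hr : ∀ (k : ℕ) (w : List ℕ), words[k]? = some w → k < nr → gword g w = 1)
    (hs : ∀ w ∈ words.drop nr, gword g w ∈ H) :
    ∀ (k : ℕ) (w : List ℕ), words[k]? = some w → gword g w ∈ H := by
  intro k w hk
  by_cases hlt : k < nr
  · rw [hr k w hk hlt]; exact one_mem _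
  · exact hs w (List.mem_of_getElem? (i := k - nr)
      (by rw [List.getElem?_drop, show nr + (k - nr) = k by omega, hk]))

theorem u_inv : ∀ x, u (x ^^^ 1) = (u x)⁻¹ := let6_inv gx gy gz

theorem u_rels_take : ∀ w ∈ pRels.take 6, gword u w = 1 := fun w hw =>
  u_rels w (List.mem_of_mem_take hw)

/-- a relator which is a power -/
theorem u_pow_rel (v : List ℕ) (k : ℕ) (h : (List.replicate k v).flatten ∈ pRels) :
    gword u v ^ k = 1 := (gword_pow u v k).symm.trans (u_rels _ h)

theorem y_six : gy ^ 6 = 1 := by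
  simpa [gword, let6, letterVal] using u_pow_rel [2] 6 (by decide +kernel)

theorem xy_eight : (gx * gy) ^ 8 = 1 := by
  simpa [gword, let6, letterVal] using u_pow_rel [0, 2] 8 (by decide +kernel)

theorem ab_three : (gx⁻¹ * gy ^ 2 * gx * gy ^ 3) ^ 3 = 1 := by
  simpa [gword, let6, letterVal, pow_succ, mul_assoc] using
    u_pow_rel [1, 2, 2, 0, 2, 2, 2] 3 (by decide +kernel)

theorem a_three : (gx⁻¹ * gy ^ 2 * gx) ^ 3 = 1 := by
  have h : (gx⁻¹ * gy ^ 2 * gx⁻¹⁻¹) ^ 3 = 1 := by
    rw [conj_pow, ← pow_mul, y_six]; group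
  simpa using h

theorem x_four : gx ^ 4 = 1 := by
  have hA : gx ^ 4 ∈ Subgroup.zpowers (gx⁻¹ * gy ^ 2 * gx) := by
    have hr := hrel_of u u_inv (words := OrbA.words) (nr := 12) (base := pRels.take 6)
      (by decide +kernel) u_rels_take
    have hs : ∀ w ∈ OrbA.words.drop 12, gword u w ∈ Subgroup.zpowers (gx⁻¹ * gy ^ 2 * gx) := by
      intro w hw
      rw [show OrbA.words.drop 12 = [[1, 2, 2, 0]] from rfl, List.mem_singleton] at hw
      subst hw
      convert Subgroup.mem_zpowers (gx⁻¹ * gy ^ 2 * gx) using 1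
      simp [gword, let6, letterVal, pow_two, mul_assoc]
    have h := relIndex_orbit_le (S := OrbA.orbitWords) OrbA.facts Nat.one_pos OrbA.node_zero
      OrbA.paths _ u u_inv hr (hsub_of u _ hr hs)
    have h1 := Subgroup.relIndex_eq_one.1 (le_antisymm h.1 (Nat.one_le_iff_ne_zero.2 h.2))
    exact h1 (Subgroup.subset_closure ⟨[0, 0, 0, 0], List.mem_cons_self,
      by simp [gword, let6, letterVal, pow_succ, mul_assoc]⟩)
  have hB : gx ^ 4 ∈ Subgroup.zpowers (gx * gy) := by
    have hr := hrel_of u u_inv (words := OrbB.words) (nr := 12) (base := pRels.take 6)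
      (by decide +kernel) u_rels_take
    have hs : ∀ w ∈ OrbB.words.drop 12, gword u w ∈ Subgroup.zpowers (gx * gy) := by
      intro w hw
      rw [show OrbB.words.drop 12 = [[0, 2]] from rfl, List.mem_singleton] at hw
      subst hw
      convert Subgroup.mem_zpowers (gx * gy) using 1
      simp [gword, let6, letterVal]
    have h := relIndex_orbit_le (S := OrbB.orbitWords) OrbB.facts Nat.one_pos OrbB.node_zero
      OrbB.paths _ u u_inv hr (hsub_of u _ hr hs)
    have h1 := Subgroup.relIndex_eq_one.1 (le_antisymm h.1 (Nat.one_le_iff_ne_zero.2 h.2))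
    exact h1 (Subgroup.subset_closure ⟨[0, 0, 0, 0], List.mem_cons_self,
      by simp [gword, let6, letterVal, pow_succ, mul_assoc]⟩)
  have h3 : orderOf (gx ^ 4) ∣ 3 :=
    (orderOf_dvd_of_mem_zpowers hA).trans (orderOf_dvd_of_pow_eq_one a_three)
  have h8 : orderOf (gx ^ 4) ∣ 8 :=
    (orderOf_dvd_of_mem_zpowers hB).trans (orderOf_dvd_of_pow_eq_one xy_eight)
  exact orderOf_eq_one_iff.1 (Nat.dvd_one.1 (Nat.dvd_gcd h3 h8))

theorem x_sq_inv : (gx ^ 2)⁻¹ = gx ^ 2 :=
  inv_eq_of_mul_eq_one_right (by rw [← pow_add]; exact x_four)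

theorem z_sq : gz * gz = 1 := by
  simpa [gword, let6, letterVal] using u_rels [4, 4] (by decide +kernel)

theorem z_inv : gz⁻¹ = gz := inv_eq_of_mul_eq_one_right z_sq

theorem zxz : gz * gx * gz = gx⁻¹ := by
  have h : gz * gx * gz * gx = 1 := by
    simpa [gword, let6, letterVal, mul_assoc] using u_rels [4, 0, 4, 0] (by decide +kernel)
  exact eq_inv_of_mul_eq_one_left h

theorem x_sq_commute_y : Commute (gx ^ 2) gy := by
  have h : gx ^ 2 * gy * gx ^ 2 * gy⁻¹ = 1 := by
    simpa [gword, let6, letterVal, pow_two, mul_assoc] using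
      u_rels [0, 0, 2, 0, 0, 3] (by decide +kernel)
  have h1 : gx ^ 2 * gy * gx ^ 2 = gy := by
    rwa [mul_inv_eq_one] at h
  calc gx ^ 2 * gy = gx ^ 2 * gy * (gx ^ 2 * (gx ^ 2)⁻¹) := by group
    _ = gx ^ 2 * gy * gx ^ 2 * gx ^ 2 := by rw [x_sq_inv]; group
    _ = gy * gx ^ 2 := by rw [h1]

theorem x_sq_commute_z : Commute (gx ^ 2) gz := by
  have h : gz * gx ^ 2 * gz = gx ^ 2 := by
    calc gz * gx ^ 2 * gz = (gz * gx * gz) * (gz * gx * gz) := by
          rw [← mul_assoc, ← mul_assoc, mul_assoc (gz * gx), z_sq, mul_one, pow_two, ← mul_assoc]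
      _ = (gx ^ 2)⁻¹ := by rw [zxz, pow_two, mul_inv_rev]
      _ = gx ^ 2 := x_sq_inv
  calc gx ^ 2 * gz = gz * gx ^ 2 * gz * gz := by rw [h]
    _ = gz * gx ^ 2 := by rw [mul_assoc _ gz gz, z_sq, mul_one]

theorem x_sq_mem_center : gx ^ 2 ∈ Subgroup.center P0 := by
  rw [Subgroup.mem_center_iff]
  intro g
  have hg : g ∈ Subgroup.centralizer ({gx ^ 2} : Set P0) := by
    refine (?_ : (⊤ : Subgroup P0) ≤ _) (Subgroup.mem_top g)
    rw [← closure_gens, Subgroup.closure_le]
    rintro _ (rfl | rfl | rfl) <;>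
      rw [SetLike.mem_coe, Subgroup.mem_centralizer_singleton_iff]
    · exact ((Commute.refl gx).pow_right 2).eq
    · exact x_sq_commute_y.symm.eq
    · exact x_sq_commute_z.symm.eq
  exact Subgroup.mem_centralizer_singleton_iff.1 hg

theorem closure_let6 {G : Type*} [Group G] (a b c : G) {L : ℕ} (hL : 4 ≤ L) (hc : L < 6 → c = 1) :
    Subgroup.closure {g | ∃ x < L, let6 a b c x = g} = Subgroup.closure {a, b, c} := by
  refine le_antisymm ((Subgroup.closure_le _).2 ?_) ((Subgroup.closure_le _).2 ?_)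
  · rintro _ ⟨x, -, rfl⟩
    simp only [let6, letterVal]
    split_ifs with h
    · interval_cases x <;>
        first
        | (refine Subgroup.subset_closure ?_; simp; done)
        | (refine inv_mem (Subgroup.subset_closure ?_); simp)
    · exact one_mem _
  · rintro _ (rfl | rfl | rfl)
    · exact Subgroup.subset_closure ⟨0, by omega, rfl⟩
    · exact Subgroup.subset_closure ⟨2, by omega, rfl⟩
    · rcases Nat.lt_or_ge L 6 with h | h
      · rw [hc h]; exact one_mem _
      · exact Subgroup.subset_closure ⟨4, by omega, rfl⟩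

theorem card_abc {G : Type*} [Group G] (a b c : G) (h3 : a ^ 3 = 1) (h2 : b ^ 2 = 1)
    (hab : (a * b) ^ 3 = 1) (hc : c ^ 2 = 1) (hac : Commute a c) (hbc : Commute b c) :
    Nat.card (Subgroup.closure {a, b, c}) ≤ 24 ∧ Nat.card (Subgroup.closure {a, b, c}) ≠ 0 := by
  have hr := hrel_of (let6 a b c) (let6_inv a b c) (words := CertA.cert.words)
    (nr := CertA.cert.nr) (base := [[0, 0, 0], [2, 2], [0, 2, 0, 2, 0, 2], [4, 4], [1, 5, 0, 4],
      [3, 5, 2, 4]]) (by decide +kernel) ?_
  · have hs : ∀ w ∈ CertA.cert.words.drop CertA.cert.nr,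
        gword (let6 a b c) w ∈ (⊥ : Subgroup G) := by
      intro w hw
      rw [show CertA.cert.words.drop CertA.cert.nr = [] from rfl] at hw
      exact absurd hw List.not_mem_nil
    have h := relIndex_le CertA.facts CertA.n_pos CertA.node_zero CertA.rows ⊥ (let6 a b c)
      (let6_inv a b c) hr (hsub_of _ _ hr hs)
    rw [show CertA.cert.L = 6 from rfl, closure_let6 a b c (by norm_num) (by omega),
      Subgroup.relIndex_bot_left] at h
    exact h
  · intro w hw
    simp only [List.mem_cons, List.not_mem_nil, or_false] at hw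
    rcases hw with rfl | rfl | rfl | rfl | rfl | rfl
    · simpa [gword, let6, letterVal, pow_succ, mul_assoc] using h3
    · simpa [gword, let6, letterVal, pow_two] using h2
    · simpa [gword, let6, letterVal, pow_succ, mul_assoc] using hab
    · simpa [gword, let6, letterVal, pow_two] using hc
    · simp [gword, let6, letterVal, hac.eq]
    · simp [gword, let6, letterVal, hbc.eq]

/-- the subgroup generated by x and y -/
noncomputable def U : Subgroup P0 := Subgroup.closure {gx, gy}

theorem index_U : U.index ≤ 352 ∧ U.index ≠ 0 := by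
  have hr := hrel_of u u_inv (words := CertP.cert.words) (nr := CertP.cert.nr) (base := pRels)
    (by decide +kernel) u_rels
  have hs : ∀ w ∈ CertP.cert.words.drop CertP.cert.nr, gword u w ∈ U := by
    intro w hw
    rw [show CertP.cert.words.drop CertP.cert.nr = [[0], [2]] from rfl] at hw
    simp only [List.mem_cons, List.not_mem_nil, or_false] at hw
    rcases hw with rfl | rfl <;>
      · simp only [gword, let6, letterVal, List.map_cons, List.map_nil, List.prod_cons,
          List.prod_nil, mul_one]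
        exact Subgroup.subset_closure (by simp)
  have h := relIndex_le CertP.facts CertP.n_pos CertP.node_zero CertP.rows U u u_inv hr
    (hsub_of u U hr hs)
  rw [show CertP.cert.L = 6 from rfl, u, closure_let6 gx gy gz (by norm_num) (by omega),
    closure_gens, Subgroup.relIndex_top_right] at h
  exact h

theorem card_U : Nat.card U ≤ 63000 * 24 ∧ Nat.card U ≠ 0 := by
  let a : P0 := (gy ^ 2)⁻¹ * (gx⁻¹ * gy ^ 2 * gx) * gy ^ 2
  let b : P0 := gy ^ 3
  let c : P0 := gx ^ 2
  have hU : ∀ g ∈ ({a, b, c} : Set P0), g ∈ U := by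
    have hx : gx ∈ U := Subgroup.subset_closure (by simp)
    have hy : gy ∈ U := Subgroup.subset_closure (by simp)
    rintro _ (rfl | rfl | rfl)
    · exact mul_mem (mul_mem (inv_mem (pow_mem hy 2))
        (mul_mem (mul_mem (inv_mem hx) (pow_mem hy 2)) hx)) (pow_mem hy 2)
    · exact pow_mem hy 3
    · exact pow_mem hx 2
  set A := Subgroup.closure ({a, b, c} : Set P0)
  have hcomm : ∀ g : P0, Commute g c := fun g => Subgroup.mem_center_iff.1 x_sq_mem_center g
  have ha : a ^ 3 = 1 := by
    have : a = (gy ^ 2)⁻¹ * (gx⁻¹ * gy ^ 2 * gx) * (gy ^ 2)⁻¹⁻¹ := by rw [inv_inv]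
    rw [this, conj_pow, a_three]; group
  have hab : (a * b) ^ 3 = 1 := by
    have : a * b = (gy ^ 2)⁻¹ * (gx⁻¹ * gy ^ 2 * gx * gy ^ 3) * (gy ^ 2)⁻¹⁻¹ := by
      simp only [a, b]; group
    rw [this, conj_pow, ab_three]; group
  have hA := card_abc a b c ha (by rw [← pow_mul]; exact y_six) hab
    (by rw [← pow_mul]; exact x_four) (hcomm a) (hcomm b)
  have hr := hrel_of (let6 gx gy (1 : P0)) (let6_inv _ _ _) (words := CertQ.cert.words)
    (nr := CertQ.cert.nr) (base := pRels.take 6 ++ [[0, 0, 0, 0]]) (by decide +kernel) ?_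
  · have hs : ∀ w ∈ CertQ.cert.words.drop CertQ.cert.nr, gword (let6 gx gy (1 : P0)) w ∈ A := by
      intro w hw
      rw [show CertQ.cert.words.drop CertQ.cert.nr =
        [[2, 2, 2], [3, 3, 1, 2, 2, 0, 2, 2], [3, 3, 0, 0, 2, 2]] from rfl] at hw
      simp only [List.mem_cons, List.not_mem_nil, or_false] at hw
      rcases hw with rfl | rfl | rfl
      · suffices e : gword (let6 gx gy (1 : P0)) [2, 2, 2] = b by
          rw [e]; exact Subgroup.subset_closure (by simp)
        simp [b, gword, let6, letterVal, pow_succ, mul_assoc]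
      · suffices e : gword (let6 gx gy (1 : P0)) [3, 3, 1, 2, 2, 0, 2, 2] = a by
          rw [e]; exact Subgroup.subset_closure (by simp)
        simp [a, gword, let6, letterVal, pow_succ, mul_assoc]
      · suffices e : gword (let6 gx gy (1 : P0)) [3, 3, 0, 0, 2, 2] = c by
          rw [e]; exact Subgroup.subset_closure (by simp)
        rw [show gword (let6 gx gy (1 : P0)) [3, 3, 0, 0, 2, 2] =
          (gy ^ 2)⁻¹ * c * gy ^ 2 by simp [c, gword, let6, letterVal, pow_succ, mul_assoc]]
        rw [mul_assoc, ← (hcomm (gy ^ 2)).eq, inv_mul_cancel_left]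
    have h := relIndex_le CertQ.facts CertQ.n_pos CertQ.node_zero CertQ.rows A
      (let6 gx gy (1 : P0)) (let6_inv _ _ _) hr (hsub_of _ A hr hs)
    rw [show CertQ.cert.L = 4 from rfl, show CertQ.cert.n = 63000 from rfl,
      closure_let6 gx gy 1 (le_refl 4) (fun _ => rfl)] at h
    have e : Subgroup.closure ({gx, gy, 1} : Set P0) = U := by
      refine le_antisymm ((Subgroup.closure_le _).2 ?_) (Subgroup.closure_mono ?_)
      · rintro _ (rfl | rfl | rfl)
        · exact Subgroup.subset_closure (by simp)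
        · exact Subgroup.subset_closure (by simp)
        · exact one_mem _
      · intro g hg
        rcases hg with rfl | rfl <;> simp
    rw [e] at h
    have hle : A ≤ U := (Subgroup.closure_le _).2 hU
    have hm := (A.subgroupOf U).card_mul_index
    rw [Nat.card_congr (Subgroup.subgroupOfEquivOfLe hle).toEquiv,
      show (A.subgroupOf U).index = A.relIndex U from rfl] at hm
    rw [← hm]
    exact ⟨by rw [Nat.mul_comm 63000]; exact Nat.mul_le_mul hA.1 h.1,
      Nat.mul_ne_zero hA.2 h.2⟩
  · intro w hw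
    have e : ∀ v : List ℕ, (∀ x ∈ v, x < 4) → gword (let6 gx gy (1 : P0)) v = gword u v :=
      fun v hv => gword_congr _ _ fun x hx => by
        have := hv x hx
        interval_cases x <;> rfl
    rcases List.mem_append.1 hw with h | h
    · have h4 : ((pRels.take 6).all fun v => v.all fun x => decide (x < 4)) = true := by
        decide +kernel
      rw [e w fun x hx =>
        of_decide_eq_true (List.all_eq_true.1 (List.all_eq_true.1 h4 w h) x hx)]
      exact u_rels_take w h
    · rw [List.mem_singleton.1 h]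
      simpa [gword, let6, letterVal, pow_succ, mul_assoc] using x_four

theorem card_P0_le : Nat.card P0 ≤ 352 * (63000 * 24) ∧ Nat.card P0 ≠ 0 := by
  rw [← U.card_mul_index]
  exact ⟨(Nat.mul_le_mul card_U.1 index_U.1).trans (by norm_num),
    Nat.mul_ne_zero card_U.2 index_U.2⟩

instance finite_P0 : Finite P0 := Nat.finite_of_card_ne_zero card_P0_le.2

end CfsgLib.HN133
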