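import Cfsg.Agent.HN133.Data
import Cfsg.Agent.Eq.Def_Spor_HN

/-!
Kernel checks: the relators of the presented Harada–Norton group act as the identity on the
133-dimensional space.
-/

set_option autoImplicit false
set_option maxRecDepth 100000

namespace CfsgLib.HN133

open Cfsg.Spor.HN

/-- the matrix word of a signed letter; `t⁻¹` is `t⁴` -/
def enc : Gen × Bool → List ℕ
  | (.x, true) => [0]
  | (.x, false) => [1]
  | (.y, true) => [2]
  | (.y, false) => [3]
  | (.z, _) => [4]
  | (.t, true) => [5]
  | (.t, false) => [5, 5, 5, 5]

/-- the words acting as the identity -/
def idOK (w : List ℕ) : Bool := sameS (runM matL w) oneS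

/-- the matrix word of a relator -/
def relWord (i : ℕ) : List ℕ := (FreeGroup.toWord (extra.getD i 1)).flatMap enc

theorem shapes : ((List.range 6).all fun x => shapeOK (matL x)) = true := by
  decide +kernel

theorem inverses : ([[0, 1], [1, 0], [2, 3], [3, 2], [4, 4], [5, 5, 5, 5, 5]].all idOK) = true := by
  decide +kernel

theorem rel0 : idOK (relWord 0) = true := by
  decide +kernel

theorem rel1 : idOK (relWord 1) = true := by
  decide +kernel

theorem rel2 : idOK (relWord 2) = true := by
  decide +kernel

theorem rel3 : idOK (relWord 3) = true := by
  decide +kernel

theorem rel4 : idOK (relWord 4) = true := by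
  decide +kernel

theorem rel5 : idOK (relWord 5) = true := by
  decide +kernel

theorem rel6 : idOK (relWord 6) = true := by
  decide +kernel

theorem rel7 : idOK (relWord 7) = true := by
  decide +kernel

theorem rel8 : idOK (relWord 8) = true := by
  decide +kernel

theorem rel9 : idOK (relWord 9) = true := by
  decide +kernel

theorem rel10 : idOK (relWord 10) = true := by
  decide +kernel

theorem rel11 : idOK (relWord 11) = true := by
  decide +kernel

theorem rel12 : idOK (relWord 12) = true := by
  decide +kernel

theorem rel13 : idOK (relWord 13) = true := by
  decide +kernel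

theorem xx_ne : idOK [0, 0] = false := by
  decide +kernel

theorem xy_ne : sameS (runM matL [0, 2]) (runM matL [2, 0]) = false := by
  decide +kernel

end CfsgLib.HN133
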