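import Cfsg.Agent.HN133.Checks

/-!
The 133-dimensional representation of the presented Harada–Norton group over the field with 29
elements, and two facts read off from it.
-/

set_option autoImplicit false
set_option maxRecDepth 100000

namespace CfsgLib.HN133

open Cfsg.Spor Cfsg.Spor.HN

/-- the matrix of a letter -/
noncomputable def M (a : ℕ) : Matrix (Fin 133) (Fin 133) (ZMod 29) := matOf (matL a)

theorem shape_all (a : ℕ) : shapeOK (matL a) = true := by
  rcases Nat.lt_or_ge a 6 with h | h
  · exact List.all_eq_true.mp shapes a (List.mem_range.mpr h)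
  · have : matL a = matL 5 := by
      match a, h with
      | n + 6, _ => rfl
    rw [this]
    exact List.all_eq_true.mp shapes 5 (List.mem_range.mpr (by norm_num))

theorem prod_one {w : List ℕ} (h : idOK w = true) : (w.map M).prod = 1 :=
  rep_eq_of_same (rep_runM matL w fun x _ => shape_all x) rep_oneS h

theorem prod_ne {w w' : List ℕ} (h : sameS (runM matL w) (runM matL w') = false) :
    (w.map M).prod ≠ (w'.map M).prod := fun e => by
  have := same_of_rep_eq (rep_runM matL w fun x _ => shape_all x)
    (show Rep (runM matL w') (w.map M).prod from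
      e ▸ rep_runM matL w' fun x _ => shape_all x)
  rw [h] at this
  exact Bool.false_ne_true this

theorem inverse_word {w : List ℕ}
    (hw : w ∈ [[0, 1], [1, 0], [2, 3], [3, 2], [4, 4], [5, 5, 5, 5, 5]]) : (w.map M).prod = 1 :=
  prod_one (List.all_eq_true.mp inverses w hw)

/-- the image of a signed letter -/
noncomputable def img (p : Gen × Bool) : Matrix (Fin 133) (Fin 133) (ZMod 29) :=
  ((enc p).map M).prod

theorem img_mul (g : Gen) (b : Bool) : img (g, b) * img (g, !b) = 1 := by
  rw [img, img, ← List.prod_append, ← List.map_append]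
  cases g <;> cases b <;> exact inverse_word (by decide)

/-- the image of a generator -/
noncomputable def gen (g : Gen) : (Matrix (Fin 133) (Fin 133) (ZMod 29))ˣ :=
  ⟨img (g, true), img (g, false), img_mul g true, img_mul g false⟩

theorem lift_val (r : FreeGroup Gen) :
    (FreeGroup.lift gen r).1 = ((r.toWord.flatMap enc).map M).prod := by
  conv_lhs => rw [← FreeGroup.mk_toWord (x := r), FreeGroup.lift_mk]
  induction r.toWord with
  | nil => simp
  | cons p l ih =>
    obtain ⟨g, b⟩ := p
    rw [List.map_cons, List.prod_cons, List.flatMap_cons, List.map_append, List.prod_append,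
      Units.val_mul, ih]
    cases b <;> rfl

theorem rel_all : ∀ i, i < 14 → idOK (relWord i) = true := fun i hi =>
  match i, hi with
  | 0, _ => rel0 | 1, _ => rel1 | 2, _ => rel2 | 3, _ => rel3 | 4, _ => rel4 | 5, _ => rel5
  | 6, _ => rel6 | 7, _ => rel7 | 8, _ => rel8 | 9, _ => rel9 | 10, _ => rel10 | 11, _ => rel11
  | 12, _ => rel12 | 13, _ => rel13
  | _ + 14, h => absurd h (by omega)

theorem relators_one :
    ∀ r ∈ coxRelators edges ∪ {r | r ∈ extra}, FreeGroup.lift gen r = 1 := by
  intro r hr
  have hr' : r ∈ extra := by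
    simpa [coxRelators, coxNodes, edges] using hr
  obtain ⟨i, hi, rfl⟩ := List.getElem_of_mem hr'
  refine Units.ext ?_
  rw [lift_val, ← List.getD_eq_getElem extra 1 hi]
  exact prod_one (rel_all i (lt_of_lt_of_le hi (le_of_eq rfl)))

/-- the representation -/
noncomputable def rep : Cfsg.Spor.HN →* (Matrix (Fin 133) (Fin 133) (ZMod 29))ˣ :=
  PresentedGroup.toGroup relators_one

theorem rep_mk (r : FreeGroup Gen) :
    rep (PresentedGroup.mk _ r) = FreeGroup.lift gen r := by
  show _ = _
  rfl

theorem x_sq_ne_one :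
    (PresentedGroup.mk _ (Cfsg.Spor.HN.x ^ 2) : Cfsg.Spor.HN) ≠ 1 := fun h => by
  have e := congrArg Units.val (congrArg rep h)
  rw [rep_mk, map_one, Units.val_one, lift_val] at e
  refine prod_ne (w := [0, 0]) (w' := []) xx_ne ?_
  have hw : (Cfsg.Spor.HN.x ^ 2).toWord.flatMap enc = [0, 0] := by decide +kernel
  rw [hw] at e
  exact e

theorem x_y_ne :
    (PresentedGroup.mk _ (Cfsg.Spor.HN.x * Cfsg.Spor.HN.y) : Cfsg.Spor.HN) ≠
      PresentedGroup.mk _ (Cfsg.Spor.HN.y * Cfsg.Spor.HN.x) := fun h => by
  have e := congrArg Units.val (congrArg rep h)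
  rw [rep_mk, rep_mk, lift_val, lift_val] at e
  refine prod_ne (w := [0, 2]) (w' := [2, 0]) xy_ne ?_
  have h1 : (Cfsg.Spor.HN.x * Cfsg.Spor.HN.y).toWord.flatMap enc = [0, 2] := by decide +kernel
  have h2 : (Cfsg.Spor.HN.y * Cfsg.Spor.HN.x).toWord.flatMap enc = [2, 0] := by decide +kernel
  rw [h1, h2] at e
  exact e

end CfsgLib.HN133
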