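import Cfsg.Agent.HN133.Bound
import Cfsg.Agent.HN133.Rep
import Cfsg.Agent.HSCover.Multiplier

/-!
The group on x, y, z is `2.HS.2`: the even part maps onto the copy of `HS` on 100 vertices with
kernel the square of x, which is its centre, and the whole group embeds in the Harada–Norton group.
-/

set_option autoImplicit false
set_option maxRecDepth 100000

noncomputable section

namespace CfsgLib.HN133

open CfsgLib.CosetEnum CfsgLib.Schur Cfsg
open scoped commutatorElement

/-- the conjugate of y by z -/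
abbrev gy' : P0 := gz * gy * gz

/-- the even part -/
def K0 : Subgroup P0 := sgn.ker

theorem sgn_x : sgn gx = 1 := lift3_x sgn_rels
theorem sgn_y : sgn gy = 1 := lift3_y sgn_rels
theorem sgn_z : sgn gz = Multiplicative.ofAdd 1 := lift3_z sgn_rels

theorem gx_mem : gx ∈ K0 := MonoidHom.mem_ker.2 sgn_x
theorem gy_mem : gy ∈ K0 := MonoidHom.mem_ker.2 sgn_y
theorem gy'_mem : gy' ∈ K0 := MonoidHom.mem_ker.2 (by
  rw [map_mul, map_mul, sgn_y, mul_one, ← map_mul, z_sq, map_one])

theorem conj_z_apply (g : P0) : MulAut.conj gz g = gz * g * gz := by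
  rw [MulAut.conj_apply, z_inv]

theorem conj_z_x : MulAut.conj gz gx = gx⁻¹ := by rw [conj_z_apply, zxz]
theorem conj_z_y : MulAut.conj gz gy = gy' := conj_z_apply gy

theorem K0_eq : K0 = Subgroup.closure {gx, gy, gy'} := by
  refine le_antisymm ?_ ((Subgroup.closure_le _).2 (by
    rintro _ (rfl | rfl | rfl)
    exacts [gx_mem, gy_mem, gy'_mem]))
  set L := Subgroup.closure ({gx, gy, gy'} : Set P0)
  have hconj : ∀ l ∈ L, gz * l * gz ∈ L := by
    intro l hl
    rw [← conj_z_apply]
    refine (?_ : L.map (MulAut.conj gz).toMonoidHom ≤ L) ⟨l, hl, rfl⟩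
    rw [MonoidHom.map_closure, Subgroup.closure_le]
    rintro _ ⟨g, hg, rfl⟩
    rcases hg with rfl | rfl | rfl
    · show MulAut.conj gz gx ∈ L
      rw [conj_z_x]; exact inv_mem (Subgroup.subset_closure (by simp))
    · show MulAut.conj gz gy ∈ L
      rw [conj_z_y]; exact Subgroup.subset_closure (by simp)
    · show MulAut.conj gz gy' ∈ L
      rw [conj_z_apply, show gz * (gz * gy * gz) * gz = gz * gz * gy * (gz * gz) by group, z_sq,
        one_mul, mul_one]
      exact Subgroup.subset_closure (by simp)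
  have key : ∀ g : P0, g ∈ L ∨ g * gz ∈ L := by
    intro g
    have hg : g ∈ Subgroup.closure ({gx, gy, gz} : Set P0) := by
      rw [closure_gens]; exact Subgroup.mem_top g
    induction hg using Subgroup.closure_induction with
    | mem a ha =>
      rcases ha with rfl | rfl | rfl
      · exact Or.inl (Subgroup.subset_closure (by simp))
      · exact Or.inl (Subgroup.subset_closure (by simp))
      · exact Or.inr (by rw [z_sq]; exact one_mem _)
    | one => exact Or.inl (one_mem _)
    | mul a b _ _ iha ihb =>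
      rcases iha with ha | ha <;> rcases ihb with hb | hb
      · exact Or.inl (mul_mem ha hb)
      · exact Or.inr (by rw [mul_assoc]; exact mul_mem ha hb)
      · refine Or.inr ?_
        rw [show a * b * gz = a * gz * (gz * b * gz) by
          simp only [← mul_assoc, mul_assoc a gz gz, z_sq, mul_one]]
        exact mul_mem ha (hconj b hb)
      · refine Or.inl ?_
        rw [show a * b = a * gz * (gz * (b * gz) * gz) by
          simp only [← mul_assoc, mul_assoc a gz gz, z_sq, mul_one]
          rw [mul_assoc (a * b) gz gz, z_sq, mul_one]]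
        exact mul_mem ha (hconj _ hb)
    | inv a _ ih =>
      rcases ih with ha | ha
      · exact Or.inl (inv_mem ha)
      · refine Or.inr ?_
        have h := hconj _ (inv_mem ha)
        rwa [mul_inv_rev, z_inv, ← mul_assoc, z_sq, one_mul] at h
  intro g hg
  refine (key g).resolve_right fun h => ?_
  have h1 : sgn (g * gz) = 1 := by
    refine (?_ : L ≤ sgn.ker) h
    rw [Subgroup.closure_le]
    rintro _ (rfl | rfl | rfl)
    exacts [gx_mem, gy_mem, gy'_mem]
  rw [map_mul, MonoidHom.mem_ker.1 hg, one_mul, sgn_z] at h1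
  exact absurd h1 (by decide)

instance K0_normal : K0.Normal := MonoidHom.normal_ker sgn

theorem index_K0 : K0.index = 2 := by
  have hs : sgn.range = ⊤ := by
    refine MonoidHom.range_eq_top.2 fun c => ?_
    rcases (show c = 1 ∨ c = Multiplicative.ofAdd 1 by revert c; decide) with rfl | rfl
    exacts [⟨1, map_one _⟩, ⟨gz, sgn_z⟩]
  rw [K0, Subgroup.index_ker, hs, Subgroup.card_top, Nat.card_eq_fintype_card]
  rfl

theorem perm_word_checks :
    ((List.range 3).all fun k => (kWords.getD k []).all (fun x => decide (x < HSCover.gFwd.length)) &&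
      (List.range 100).all fun i => PackedPerm.act pFwd ([[0], [2], [4, 2, 4]].getD k []) i ==
        PackedPerm.act HSCover.gFwd (kWords.getD k []) i) = true ∧
    ((List.range 7).all fun k => (gWords.getD k []).all (fun x => decide (x < 6)) &&
      (parity (gWords.getD k []) == 0) &&
      (List.range 100).all fun i => PackedPerm.act pFwd (gWords.getD k []) i ==
        PackedPerm.act HSCover.gFwd [k] i) = true ∧
    ((List.range 100).all fun i => PackedPerm.act pFwd [0, 0] i == i) = true := by
  decide +kernel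

theorem toPerm100_mem_K {k : ℕ} (hk : k < 3) :
    toPerm100 (gword u ([[0], [2], [4, 2, 4]].getD k [])) ∈ HSCover.K := by
  have h := List.all_eq_true.1 perm_word_checks.1 k (List.mem_range.2 hk)
  rw [Bool.and_eq_true] at h
  have hl : ∀ x ∈ ([[0], [2], [4, 2, 4]] : List (List ℕ)).getD k [], x < 6 := by
    interval_cases k <;> simp
  have e : toPerm100 (gword u ([[0], [2], [4, 2, 4]].getD k [])) =
      gword HSCover.gperm (kWords.getD k []) := Equiv.ext fun i => Fin.ext (by
    rw [toPerm100_apply hl, beq_iff_eq.1 (List.all_eq_true.1 h.2 i.1 (List.mem_range.2 i.2))]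
    exact (PackedPerm.word_apply HSCover.tables_ok.1 h.1 i).symm)
  rw [e]
  exact gword_mem _ _ fun x hx => HSCover.gperm_mem
    ((of_decide_eq_true (List.all_eq_true.1 h.1 x hx)).trans_eq HSCover.tables_ok.2)

theorem map_K0 : K0.map toPerm100 = HSCover.K := by
  refine le_antisymm ?_ ?_
  · rw [K0_eq, MonoidHom.map_closure, Subgroup.closure_le]
    rintro _ ⟨g, hg, rfl⟩
    rcases hg with rfl | rfl | rfl
    · simpa [gword, let6, letterVal] using toPerm100_mem_K (k := 0) (by norm_num)
    · simpa [gword, let6, letterVal] using toPerm100_mem_K (k := 1) (by norm_num)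
    · simpa [gword, let6, letterVal, mul_assoc] using toPerm100_mem_K (k := 2) (by norm_num)
  · rw [HSCover.K, Chain.seg, Subgroup.closure_le]
    rintro _ ⟨k, hk, rfl⟩
    have h := List.all_eq_true.1 perm_word_checks.2.1 k (List.mem_range.2 hk)
    simp only [Bool.and_eq_true, beq_iff_eq] at h
    have hl : ∀ x ∈ gWords.getD k [], x < 6 := fun x hx =>
      of_decide_eq_true (List.all_eq_true.1 h.1.1 x hx)
    refine ⟨gword u (gWords.getD k []), MonoidHom.mem_ker.2 ?_, Equiv.ext fun i => Fin.ext ?_⟩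
    · rw [sgn_word hl, h.1.2]; rfl
    · rw [toPerm100_apply hl, beq_iff_eq.1 (List.all_eq_true.1 h.2 i.1 (List.mem_range.2 i.2)),
        ← PackedPerm.word_apply HSCover.tables_ok.1
          (by simp [HSCover.tables_ok.2, hk]) i]
      simp [gword, HSCover.gperm]

theorem toPerm100_mem {g : P0} (hg : g ∈ K0) : toPerm100 g ∈ HSCover.K :=
  map_K0 ▸ Subgroup.mem_map_of_mem _ hg

/-- the even part on the vertices -/
def qK : K0 →* HSCover.K :=
  (toPerm100.comp K0.subtype).codRestrict HSCover.K fun g => toPerm100_mem g.2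

theorem qK_surjective : Function.Surjective qK := fun k => by
  obtain ⟨g, hg, e⟩ := (SetLike.ext_iff.1 map_K0 k.1).2 k.2
  exact ⟨⟨g, hg⟩, Subtype.ext e⟩

/-- x in the even part -/
def xK : K0 := ⟨gx, gx_mem⟩
/-- y in the even part -/
def yK : K0 := ⟨gy, gy_mem⟩
/-- the conjugate of y in the even part -/
def yK' : K0 := ⟨gy', gy'_mem⟩

theorem toHN_x : toHN gx = hx := lift3_x hn_rels
theorem toHN_y : toHN gy = hy := lift3_y hn_rels
theorem toHN_z : toHN gz = hz := lift3_z hn_rels

theorem gx_sq_ne_one : gx ^ 2 ≠ 1 := fun h => by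
  have := congrArg toHN h
  rw [map_pow, toHN_x, map_one] at this
  exact x_sq_ne_one (by rw [map_pow]; exact this)

theorem xK_sq_mem_ker : xK ^ 2 ∈ qK.ker := by
  refine MonoidHom.mem_ker.2 (Subtype.ext (Equiv.ext fun i => Fin.ext ?_))
  show (toPerm100 (gx ^ 2) i).val = i.val
  rw [show gx ^ 2 = gword u [0, 0] by simp [gword, let6, letterVal, pow_two],
    toPerm100_apply (by simp)]
  exact beq_iff_eq.1 (List.all_eq_true.1 perm_word_checks.2.2 i.1 (List.mem_range.2 i.2))

theorem xK_sq_ne_one : xK ^ 2 ≠ 1 := fun h => gx_sq_ne_one (congrArg Subtype.val h)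

theorem card_P0_eq_two_mul : Nat.card P0 = 2 * (Nat.card qK.ker * 44352000) := by
  rw [← K0.card_mul_index, index_K0, ← qK.ker.card_mul_index, Subgroup.index_ker,
    MonoidHom.range_eq_top.2 qK_surjective, Subgroup.card_top, HSCover.card_K, Nat.mul_comm]

theorem card_ker_le_six : Nat.card qK.ker ≤ 6 := by
  have h := card_P0_le.1.trans (show 352 * (63000 * 24) ≤ 2 * (6 * 44352000) by norm_num)
  rw [card_P0_eq_two_mul] at h
  exact Nat.le_of_mul_le_mul_right (Nat.le_of_mul_le_mul_left h (by norm_num)) (by norm_num)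

theorem ker_comm (a b : qK.ker) : a * b = b * a := by
  let d : qK.ker := ⟨xK ^ 2, xK_sq_mem_ker⟩
  have hd : ∀ g : qK.ker, Commute g d := fun g =>
    Subtype.ext (Subtype.ext (Subgroup.mem_center_iff.1 x_sq_mem_center g.1.1))
  have hle : Subgroup.zpowers d ≤ Subgroup.center qK.ker :=
    Subgroup.zpowers_le.2 (Subgroup.mem_center_iff.2 hd)
  haveI : (Subgroup.zpowers d).Normal := ⟨fun z hz g => by
    rw [Subgroup.mem_center_iff.1 (hle hz) g, mul_assoc, mul_inv_cancel, mul_one]; exact hz⟩
  have hd2 : orderOf d = 2 := orderOf_eq_prime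
    (Subtype.ext (Subtype.ext (show (gx ^ 2) ^ 2 = 1 by rw [← pow_mul]; exact x_four)))
    fun e => xK_sq_ne_one (congrArg Subtype.val e)
  have hm := (Subgroup.zpowers d).card_mul_index
  rw [Nat.card_zpowers, hd2] at hm
  have h6 := card_ker_le_six
  have hpos : 0 < Nat.card qK.ker := Nat.card_pos
  haveI : IsCyclic (qK.ker ⧸ Subgroup.zpowers d) := by
    have hc : Nat.card (qK.ker ⧸ Subgroup.zpowers d) = (Subgroup.zpowers d).index := rfl
    obtain h | h | h : (Subgroup.zpowers d).index = 1 ∨ (Subgroup.zpowers d).index = 2 ∨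
        (Subgroup.zpowers d).index = 3 := by omega
    · haveI : Subsingleton (qK.ker ⧸ Subgroup.zpowers d) :=
        (Nat.card_eq_one_iff_unique.1 (hc.trans h)).1
      infer_instance
    · haveI : Fact (Nat.Prime 2) := ⟨Nat.prime_two⟩
      exact isCyclic_of_prime_card (hc.trans h)
    · haveI : Fact (Nat.Prime 3) := ⟨Nat.prime_three⟩
      exact isCyclic_of_prime_card (hc.trans h)
  exact commutative_of_cyclic_center_quotient (QuotientGroup.mk' (Subgroup.zpowers d))
    (by rw [QuotientGroup.ker_mk']; exact hle) a b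

theorem ker_le_center : qK.ker ≤ Subgroup.center K0 := by
  set φ : K0 →* MulAut qK.ker := MulAut.conjNormal
  have hD : qK.ker ≤ φ.ker := fun d hd => MonoidHom.mem_ker.2 (MulEquiv.ext fun e => Subtype.ext (by
    rw [MulAut.conjNormal_apply]
    have := congrArg Subtype.val (ker_comm ⟨d, hd⟩ e)
    simp only [Subgroup.coe_mul] at this
    rw [this, mul_assoc, mul_inv_cancel, mul_one]
    rfl))
  have hC : φ.ker = ⊤ := by
    haveI := HSCover.isSimpleGroup_K
    have hn : (φ.ker.map qK).Normal := (MonoidHom.normal_ker φ).map qK qK_surjective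
    rcases hn.eq_bot_or_eq_top with h | h
    · exfalso
      have hle : φ.ker ≤ qK.ker := fun g hg =>
        MonoidHom.mem_ker.2 (by rw [← Subgroup.mem_bot, ← h]; exact Subgroup.mem_map_of_mem _ hg)
      have h1 := Subgroup.index_antitone hle
      rw [Subgroup.index_ker qK, MonoidHom.range_eq_top.2 qK_surjective, Subgroup.card_top,
        HSCover.card_K, Subgroup.index_ker φ] at h1
      have h2 : Nat.card φ.range ≤ Nat.card (Equiv.Perm qK.ker) :=
        Nat.card_le_card_of_injective (fun a => (a.1.toEquiv : Equiv.Perm qK.ker))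
          fun a b e => Subtype.ext (MulEquiv.toEquiv_injective e)
      rw [Nat.card_perm] at h2
      have h3 := Nat.factorial_le card_ker_le_six
      have h4 : Nat.factorial 6 = 720 := rfl
      omega
    · have := congrArg (Subgroup.comap qK) h
      rw [Subgroup.comap_map_eq, Subgroup.comap_top, sup_eq_left.2 hD] at this
      exact this
  intro d hd
  rw [Subgroup.mem_center_iff]
  intro g
  have := congrArg Subtype.val (DFunLike.congr_fun
    (MonoidHom.mem_ker.1 (hC ▸ Subgroup.mem_top g : g ∈ φ.ker)) ⟨d, hd⟩)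
  rw [MulAut.conjNormal_apply] at this
  exact mul_inv_eq_iff_eq_mul.1 this

theorem rel_ten : gz * ((gy ^ 3 * gx * gy * gx * gy)⁻¹ * gz * (gy ^ 3 * gx * gy * gx * gy) * gx) ^ 3
    = 1 := by
  have h := u_rels (4 :: (List.replicate 3
    [3, 1, 3, 1, 3, 3, 3, 4, 2, 2, 2, 0, 2, 0, 2, 0]).flatten) (by decide +kernel)
  rw [gword_cons, gword_pow] at h
  simpa [gword, let6, letterVal, pow_succ, mul_assoc] using h

theorem perfect_K0 : commutator K0 = ⊤ := by
  let W : P0 := gy ^ 3 * gx * gy * gx * gy
  let WK : K0 := yK ^ 3 * xK * yK * xK * yK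
  let WK' : K0 := yK' ^ 3 * xK⁻¹ * yK' * xK⁻¹ * yK'
  have e10 : WK'⁻¹ * (WK * xK * WK⁻¹) * (WK' * xK⁻¹ * WK'⁻¹) * (WK * xK) = 1 := by
    refine Subtype.ext ?_
    show (gy' ^ 3 * gx⁻¹ * gy' * gx⁻¹ * gy')⁻¹ * (W * gx * W⁻¹) *
      ((gy' ^ 3 * gx⁻¹ * gy' * gx⁻¹ * gy') * gx⁻¹ * (gy' ^ 3 * gx⁻¹ * gy' * gx⁻¹ * gy')⁻¹) *
        (W * gx) = 1
    simp only [← conj_z_x, ← conj_z_y, ← map_mul, ← map_inv, ← map_pow]
    rw [MulAut.conj_apply, MulAut.conj_apply, z_inv]
    have h : gz * (W⁻¹ * gz * W * gx) ^ 3 = 1 := rel_ten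
    rw [pow_three] at h
    rw [← h]
    simp only [W]
    group
  have hy'6 : gy' ^ 6 = 1 := by rw [← conj_z_y, ← map_pow, y_six, map_one]
  have hy'15 : (gx * gy' ^ 2 * gx⁻¹ * gy' ^ 3) ^ 3 = 1 := by
    have := congrArg (MulAut.conj gz) ab_three
    simpa only [map_pow, map_mul, map_inv, conj_z_x, conj_z_y, inv_inv, map_one] using this
  have hy'8 : (gx⁻¹ * gy') ^ 8 = 1 := by
    have := congrArg (MulAut.conj gz) xy_eight
    simpa only [map_pow, map_mul, map_inv, conj_z_x, conj_z_y, inv_inv, map_one] using this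
  let θ : K0 →* Abelianization K0 := Abelianization.of
  have tr : ∀ {k : K0}, k.1 = 1 → θ k = 1 := fun {k} h => by
    rw [show k = 1 from Subtype.ext h, map_one]
  have a4 : θ xK ^ 4 = 1 := by rw [← map_pow]; exact tr (k := xK ^ 4) x_four
  have kill : ∀ {A B : Abelianization K0}, A ^ 4 = 1 → B ^ 6 = 1 → B ^ 15 = 1 → (A * B) ^ 8 = 1 →
      B = 1 := by
    intro A B ha h6 h15 h8
    rw [mul_pow, show A ^ 8 = (A ^ 4) ^ 2 by rw [← pow_mul], ha, one_pow, one_mul] at h8
    have h := pow_gcd_eq_one.2 ⟨h15, h8⟩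
    simpa using h
  have hy : θ yK = 1 := kill a4 (by rw [← map_pow]; exact tr (k := yK ^ 6) y_six)
    (by
      have h := tr (k := (xK⁻¹ * yK ^ 2 * xK * yK ^ 3) ^ 3) ab_three
      simp only [map_pow, map_mul, map_inv] at h
      rw [mul_right_comm _ _ (θ xK), inv_mul_cancel, one_mul, ← pow_add, ← pow_mul] at h
      exact h)
    (by rw [← map_mul, ← map_pow]; exact tr (k := (xK * yK) ^ 8) xy_eight)
  have hy' : θ yK' = 1 := kill (A := (θ xK)⁻¹) (by rw [inv_pow, a4, inv_one])
    (by rw [← map_pow]; exact tr (k := yK' ^ 6) hy'6)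
    (by
      have h := tr (k := (xK * yK' ^ 2 * xK⁻¹ * yK' ^ 3) ^ 3) hy'15
      simp only [map_pow, map_mul, map_inv] at h
      rw [mul_right_comm _ _ (θ xK)⁻¹, mul_inv_cancel, one_mul, ← pow_add, ← pow_mul] at h
      exact h)
    (by rw [← map_inv, ← map_mul, ← map_pow]; exact tr (k := (xK⁻¹ * yK') ^ 8) hy'8)
  have hx : θ xK = 1 := by
    have h := congrArg θ e10
    simp only [WK, WK', map_mul, map_inv, map_pow, map_one, hy, hy', one_pow, one_mul, mul_one] at h
    have h5 : θ xK ^ 5 = 1 := by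
      rw [← h]
      simp [pow_succ, mul_assoc]
    have := pow_gcd_eq_one.2 ⟨a4, h5⟩
    simpa using this
  rw [eq_top_iff]
  intro g _
  rw [← Abelianization.ker_of, MonoidHom.mem_ker]
  refine Subgroup.closure_induction (p := fun a ha => θ ⟨a, by rw [K0_eq]; exact ha⟩ = 1)
    ?_ ?_ ?_ ?_ (K0_eq ▸ g.2 : g.1 ∈ Subgroup.closure {gx, gy, gy'})
  · rintro _ (rfl | rfl | rfl)
    exacts [hx, hy, hy']
  · exact map_one θ
  · intro a b _ _ ha hb
    exact (map_mul θ ⟨a, _⟩ ⟨b, _⟩).trans (by rw [ha, hb, one_mul])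
  · intro a _ ha
    exact (map_inv θ ⟨a, _⟩).trans (by rw [ha, inv_one])

theorem isStem_qK : Cfsg.IsStemExtension qK :=
  ⟨qK_surjective, ker_le_center, by rw [perfect_K0]; exact le_top⟩

theorem card_ker : Nat.card qK.ker = 2 := by
  obtain ⟨π, hπ⟩ := HSCover.multiplier_K.2 K0 qK isStem_qK
  have h := Nat.card_le_card_of_surjective π hπ
  have h1 : 1 < Nat.card qK.ker := (Subgroup.one_lt_card_iff_ne_bot _).2 fun e => xK_sq_ne_one
    (Subgroup.mem_bot.1 (e ▸ xK_sq_mem_ker))
  have hA : Nat.card (Multiplicative (ZMod 2)) = 2 := by simp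
  omega

theorem ker_eq_zpowers : qK.ker = Subgroup.zpowers (xK ^ 2) := by
  refine (Subgroup.eq_of_le_of_card_ge (Subgroup.zpowers_le.2 xK_sq_mem_ker) ?_).symm
  rw [card_ker, Nat.card_zpowers, orderOf_eq_prime
    (Subtype.ext (show (gx ^ 2) ^ 2 = 1 by rw [← pow_mul]; exact x_four)) xK_sq_ne_one]

theorem mem_ker_iff {g : K0} : g ∈ qK.ker ↔ g = 1 ∨ g = xK ^ 2 := by
  refine ⟨fun h => ?_, by rintro (rfl | rfl); exacts [one_mem _, xK_sq_mem_ker]⟩
  rw [ker_eq_zpowers] at h
  obtain ⟨k, rfl⟩ := Subgroup.mem_zpowers_iff.1 h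
  have h2 : (xK ^ 2) ^ (2 : ℤ) = 1 := by
    rw [zpow_two]; exact Subtype.ext (by
      show gx ^ 2 * gx ^ 2 = 1
      rw [← pow_add]; exact x_four)
  rcases Int.even_or_odd k with ⟨m, rfl⟩ | ⟨m, rfl⟩
  · left; rw [← two_mul, zpow_mul, h2, one_zpow]
  · right; rw [zpow_add_one, zpow_mul, h2, one_zpow, one_mul]

theorem card_P0 : Nat.card P0 = 177408000 := by rw [card_P0_eq_two_mul, card_ker]

theorem center_K0 : Subgroup.center K0 = qK.ker := by
  refine le_antisymm (fun g hg => ?_) ker_le_center
  haveI := HSCover.isSimpleGroup_K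
  have hbot : Subgroup.center HSCover.K = ⊥ := by
    refine ((inferInstance : (Subgroup.center HSCover.K).Normal).eq_bot_or_eq_top).resolve_right
      fun h => ?_
    have : commutator HSCover.K = ⊥ := by
      rw [commutator_def, Subgroup.commutator_eq_bot_iff_le_centralizer]
      intro a _
      rw [Subgroup.mem_centralizer_iff]
      intro b _
      exact Subgroup.mem_center_iff.1 (h ▸ Subgroup.mem_top a) b
    rw [HSCover.perfect_K] at this
    exact top_ne_bot this
  rw [MonoidHom.mem_ker, ← Subgroup.mem_bot, ← hbot, Subgroup.mem_center_iff]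
  intro k
  obtain ⟨a, rfl⟩ := qK_surjective k
  rw [← map_mul, ← map_mul, Subgroup.mem_center_iff.1 hg a]

theorem not_complement (L : Subgroup K0) : ¬ (Subgroup.center K0).IsComplement' L := by
  intro h
  have hc := h.card_mul
  have hi := L.card_mul_index
  rw [center_K0, card_ker] at hc
  have hidx : L.index = 2 := by
    have : 0 < Nat.card L := Nat.card_pos
    nlinarith
  have hm : xK ^ 2 ∈ L := by rw [pow_two]; exact Subgroup.mul_self_mem_of_index_two hidx xK
  exact xK_sq_ne_one (Subgroup.mem_bot.1 (h.disjoint.le_bot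
    ⟨by rw [center_K0]; exact xK_sq_mem_ker, hm⟩))

theorem sign_prod_swaps {α : Type*} [DecidableEq α] [Fintype α] (l : List (α × α)) (n : ℕ)
    (hl : l.length = n) (hne : ∀ p ∈ l, p.1 ≠ p.2) (hn : Odd n) :
    Equiv.Perm.sign (l.map fun p => Equiv.swap p.1 p.2).prod = -1 := by
  rw [map_list_prod, List.map_map,
    (List.eq_replicate_iff.2 ⟨by rw [List.length_map, hl], fun b hb => by
      obtain ⟨p, hp, rfl⟩ := List.mem_map.1 hb
      exact Equiv.Perm.sign_swap (hne p hp)⟩ :
      l.map (Equiv.Perm.sign ∘ fun p : α × α => Equiv.swap p.1 p.2) = List.replicate n (-1)),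
    List.prod_replicate]
  exact hn.neg_one_pow

theorem zSwaps_perm : ((List.range 100).all fun i => if h : i < 100 then
    PackedPerm.act pFwd [4] i == ((zSwaps.map fun p => Equiv.swap p.1 p.2).prod ⟨i, h⟩).1
    else false) = true := by
  decide +kernel

theorem zSwaps_ne : (zSwaps.all fun p => p.1 != p.2) = true := by decide +kernel

theorem zSwaps_length : zSwaps.length = 35 := by decide +kernel

theorem sign_gz : Equiv.Perm.sign (toPerm100 gz) = -1 := by
  have hz : gz = gword u [4] := by
    rw [gword_cons, gword_nil, mul_one]; rfl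
  have hl : ∀ x ∈ [4], x < 6 := by simp
  have hp : toPerm100 gz = (zSwaps.map fun p => Equiv.swap p.1 p.2).prod := by
    refine Equiv.ext fun i => Fin.ext ?_
    have h := List.all_eq_true.1 zSwaps_perm i.1 (List.mem_range.2 i.2)
    rw [dif_pos i.2, beq_iff_eq] at h
    rw [hz, toPerm100_apply hl]
    exact h
  rw [hp]
  exact sign_prod_swaps zSwaps 35 zSwaps_length
    (fun p hp => bne_iff_ne.1 (List.all_eq_true.1 zSwaps_ne p hp)) (by decide)

theorem toHN_injective : Function.Injective toHN := by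
  haveI := HSCover.isSimpleGroup_K
  have hK : ∀ n : K0, toHN n = 1 → n = 1 := by
    set N1 := (toHN.comp K0.subtype).ker
    have hn : (N1.map qK).Normal := (MonoidHom.normal_ker _).map qK qK_surjective
    rcases hn.eq_bot_or_eq_top with h | h
    · intro n hn1
      have hq : n ∈ qK.ker := MonoidHom.mem_ker.2 (by
        rw [← Subgroup.mem_bot, ← h]
        exact Subgroup.mem_map_of_mem _ (MonoidHom.mem_ker.2 hn1))
      rcases mem_ker_iff.1 hq with rfl | rfl
      · rfl
      · exfalso
        have h2 : toHN (gx ^ 2) = 1 := hn1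
        rw [map_pow, toHN_x] at h2
        exact x_sq_ne_one (by rw [map_pow]; exact h2)
    · exfalso
      obtain ⟨n, hn1, e⟩ := (SetLike.ext_iff.1 h (qK xK)).2 (Subgroup.mem_top _)
      have hd : n⁻¹ * xK ∈ Subgroup.center K0 := by
        rw [center_K0, MonoidHom.mem_ker, map_mul, map_inv, e, inv_mul_cancel]
      have hc := congrArg (fun g : K0 => toHN g) (Subgroup.mem_center_iff.1 hd yK)
      have hn2 : toHN (n : P0) = 1 := MonoidHom.mem_ker.1 hn1
      simp only [Subgroup.coe_mul, Subgroup.coe_inv, map_mul, map_inv, hn2, inv_one, one_mul] at hc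
      refine x_y_ne ?_
      rw [map_mul, map_mul]
      rw [show toHN (xK : P0) = hx from toHN_x, show toHN (yK : P0) = hy from toHN_y] at hc
      exact hc.symm
  rw [← MonoidHom.ker_eq_bot_iff, eq_bot_iff]
  intro k hk
  rw [Subgroup.mem_bot]
  by_cases hs : k ∈ K0
  · exact congrArg Subtype.val (hK ⟨k, hs⟩ (MonoidHom.mem_ker.1 hk))
  exfalso
  have hcomm : ∀ s ∈ K0, Commute k s := by
    intro s hs1
    have hm : k * s * k⁻¹ * s⁻¹ ∈ K0 := MonoidHom.mem_ker.2 (by
      simp [map_mul, map_inv, mul_comm, mul_left_comm])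
    have h1 : toHN (k * s * k⁻¹ * s⁻¹) = 1 := by simp [MonoidHom.mem_ker.1 hk]
    have e : k * s * k⁻¹ * s⁻¹ = 1 := congrArg Subtype.val (hK ⟨_, hm⟩ h1)
    calc k * s = (k * s * k⁻¹ * s⁻¹) * (s * k) := by group
      _ = s * k := by rw [e, one_mul]
  have hc : ∀ a ∈ HSCover.K, Commute (toPerm100 k) a := by
    intro a ha
    rw [← map_K0] at ha
    obtain ⟨s, hs1, rfl⟩ := ha
    exact (hcomm s hs1).map toPerm100
  have chk : ((List.range 100).all fun i =>
      i == 0 || (List.range 6).any fun x => PackedPerm.img HSCover.gFwd x 0 == 0 &&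
        !(PackedPerm.img HSCover.gFwd x i == i)) = true ∧
      ((List.range 100).all fun i => HSCover.trans.any fun w =>
        w.all (fun x => decide (x < HSCover.gFwd.length)) &&
          PackedPerm.act HSCover.gFwd w 0 == i) = true := by decide +kernel
  have hv : ∀ x < 7, ∀ i : Fin 100, (HSCover.gperm x i).val = PackedPerm.img HSCover.gFwd x i :=
    fun x hx i => by
      rw [HSCover.gperm, PackedPerm.toPerm, dif_pos (HSCover.tables_ok.2.symm ▸ hx)]; rfl
  have h0 : toPerm100 k 0 = 0 := by
    by_contra hne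
    have h := List.all_eq_true.1 chk.1 (toPerm100 k 0).1 (List.mem_range.2 (toPerm100 k 0).2)
    simp only [Bool.or_eq_true, beq_iff_eq, List.any_eq_true, List.mem_range, Bool.and_eq_true,
      Bool.not_eq_true', beq_eq_false_iff_ne] at h
    rcases h with h | ⟨x, hx, hx0, hxm⟩
    · exact hne (Fin.ext h)
    · apply hxm
      have hfix : HSCover.gperm x 0 = 0 := Fin.ext ((hv x (by omega) 0).trans hx0)
      rw [← hv x (by omega)]
      have := DFunLike.congr_fun (hc _ (HSCover.gperm_mem (show x < 7 by omega))).eq 0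
      rw [Equiv.Perm.mul_apply, Equiv.Perm.mul_apply, hfix] at this
      rw [← this]
  have hone : toPerm100 k = 1 := by
    refine Equiv.ext fun i => ?_
    have h := List.all_eq_true.1 chk.2 i.1 (List.mem_range.2 i.2)
    simp only [List.any_eq_true, Bool.and_eq_true, beq_iff_eq] at h
    obtain ⟨w, -, hw, hw0⟩ := h
    have hmem : gword HSCover.gperm w ∈ HSCover.K := gword_mem _ _ fun x hx => HSCover.gperm_mem
      ((of_decide_eq_true (List.all_eq_true.1 hw x hx)).trans_eq HSCover.tables_ok.2)
    have hi : gword HSCover.gperm w 0 = i :=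
      Fin.ext ((PackedPerm.word_apply HSCover.tables_ok.1 hw 0).trans hw0)
    have := DFunLike.congr_fun (hc _ hmem).eq 0
    rw [Equiv.Perm.mul_apply, Equiv.Perm.mul_apply, h0, hi] at this
    simpa using this
  have hz : gz * k ∈ K0 := by
    have h1 : sgn k = Multiplicative.ofAdd 1 := by
      rcases (show ∀ c : C2, c = 1 ∨ c = Multiplicative.ofAdd 1 by decide) (sgn k) with h | h
      · exact absurd (MonoidHom.mem_ker.2 h) hs
      · exact h
    refine MonoidHom.mem_ker.2 ?_
    rw [map_mul, sgn_z, h1]; decide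
  have hzK : toPerm100 gz ∈ HSCover.K := by
    have := toPerm100_mem hz
    rwa [map_mul, hone, mul_one] at this
  have hsign := sign_gz
  have hker : HSCover.K.map Equiv.Perm.sign = ⊥ := by
    rw [eq_bot_iff, ← Subgroup.range_subtype HSCover.K, ← MonoidHom.range_comp]
    rintro _ ⟨a, rfl⟩
    have h : commutator HSCover.K ≤ (Equiv.Perm.sign.comp HSCover.K.subtype).ker :=
      Abelianization.commutator_subset_ker _
    rw [HSCover.perfect_K] at h
    exact Subgroup.mem_bot.2 (MonoidHom.mem_ker.1 (h (Subgroup.mem_top a)))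
  have h1 : Equiv.Perm.sign (toPerm100 gz) = 1 :=
    Subgroup.mem_bot.1 (hker ▸ Subgroup.mem_map_of_mem _ hzK)
  rw [hsign] at h1
  exact absurd h1 (by decide)

theorem toHN_range : toHN.range = Subgroup.closure {hx, hy, hz} := by
  rw [MonoidHom.range_eq_map, ← closure_gens, MonoidHom.map_closure, Set.image_insert_eq,
    Set.image_insert_eq, Set.image_singleton, toHN_x, toHN_y, toHN_z]

/-- the group on x, y, z is the subgroup they generate in the Harada–Norton group -/
def equivRange : P0 ≃* toHN.range := MonoidHom.ofInjective toHN_injective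

end CfsgLib.HN133

end
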