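import Mathlib

/-!
Products of sparse matrices over the field with 29 elements, computed on packed natural numbers:
a row of a product is one number with a slot of 34 bits for each entry, reduced slotwise.
-/

set_option autoImplicit false

namespace CfsgLib.HN133

open Matrix

/-- the slot base -/
abbrev B : ℕ := 2 ^ 34

/-- `n` slots as one number -/
def dig : ℕ → (ℕ → ℕ) → ℕ
  | 0, _ => 0
  | n + 1, d => d 0 + B * dig n fun j => d (j + 1)

/-- the low twelve bits of every slot -/
def mask : ℕ := dig 133 fun _ => 4095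

/-- slotwise reduction modulo 29 -/
def red (X : ℕ) : ℕ := X - 29 * (((X * 144632) >>> 22) &&& mask)

/-- a row of a packed state, kept in blocks of twelve -/
def get (L : List (List ℕ)) (i : ℕ) : ℕ := (L.getD (i / 12) []).getD (i % 12) 0

/-- blocks from a function -/
def tab (f : ℕ → ℕ) : List (List ℕ) :=
  (List.range 12).map fun g => (List.range 12).map fun r => f (12 * g + r)

/-- a sparse row times a packed state; an entry `a` in column `k` is coded as `32 * k + a` -/
def comb (L : List (List ℕ)) : List ℕ → ℕ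
  | [] => 0
  | p :: l => p % 32 * get L (p / 32) + comb L l

/-- a sparse matrix times a packed state -/
def stepM (R : List (List ℕ)) (L : List (List ℕ)) : List (List ℕ) :=
  tab fun i => red (comb L (R.getD i []))

/-- the identity -/
def oneS : List (List ℕ) := tab fun i => dig 133 fun j => if j = i then 1 else 0

/-- a word in sparse matrices times the identity -/
def runM (A : ℕ → List (List ℕ)) : List ℕ → List (List ℕ)
  | [] => oneS
  | x :: w => stepM (A x) (runM A w)

/-- two states have the same rows -/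
def sameS (L L' : List (List ℕ)) : Bool := (List.range 133).all fun i => Nat.beq (get L i) (get L' i)

/-- the weight of a sparse row is small and its columns are in range -/
def shapeOK (R : List (List ℕ)) : Bool :=
  R.all fun l => Nat.ble ((l.map fun p => p % 32).sum * 28) 104272 &&
    l.all fun p => Nat.blt (p / 32) 133

/-- the matrix of a sparse row list -/
def matOf (R : List (List ℕ)) : Matrix (Fin 133) (Fin 133) (ZMod 29) :=
  fun i k => ((R.getD i []).map fun p => if p / 32 = (k : ℕ) then ((p % 32 : ℕ) : ZMod 29) else 0).sum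

/-- the state represents the matrix -/
def Rep (L : List (List ℕ)) (P : Matrix (Fin 133) (Fin 133) (ZMod 29)) : Prop :=
  ∀ i : Fin 133, get L i = dig 133 fun j => if h : j < 133 then (P i ⟨j, h⟩).val else 0

theorem dig_congr : ∀ (n : ℕ) (d e : ℕ → ℕ), (∀ j < n, d j = e j) → dig n d = dig n e
  | 0, _, _, _ => rfl
  | n + 1, d, e, h => by
    rw [dig, dig, h 0 (Nat.succ_pos n), dig_congr n _ _ fun j hj => h (j + 1) (Nat.succ_lt_succ hj)]

theorem dig_zero : ∀ n : ℕ, (dig n fun _ => 0) = 0
  | 0 => rfl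
  | n + 1 => by simp [dig, dig_zero n]

theorem dig_add : ∀ (n : ℕ) (d e : ℕ → ℕ), dig n d + dig n e = dig n fun j => d j + e j
  | 0, _, _ => rfl
  | n + 1, d, e => by
    rw [dig, dig, dig, ← dig_add n (fun j => d (j + 1)) (fun j => e (j + 1))]
    ring

theorem dig_mul : ∀ (n a : ℕ) (d : ℕ → ℕ), a * dig n d = dig n fun j => a * d j
  | 0, a, _ => Nat.mul_zero a
  | n + 1, a, d => by
    rw [dig, dig, ← dig_mul n a fun j => d (j + 1)]
    ring

theorem dig_inj : ∀ (n : ℕ) (d e : ℕ → ℕ), (∀ j, d j < B) → (∀ j, e j < B) → dig n d = dig n e →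
    ∀ j < n, d j = e j
  | 0, _, _, _, _, _, j, hj => absurd hj (Nat.not_lt_zero j)
  | n + 1, d, e, hd, he, h, j, hj => by
    rw [dig, dig] at h
    have h0 := congrArg (· % B) h
    simp only [Nat.add_mul_mod_self_left, Nat.mod_eq_of_lt (hd 0), Nat.mod_eq_of_lt (he 0)] at h0
    cases j with
    | zero => exact h0
    | succ j =>
      rw [h0, add_right_inj] at h
      exact dig_inj n _ _ (fun i => hd (i + 1)) (fun i => he (i + 1))
        (Nat.eq_of_mul_eq_mul_left (by norm_num) h) j (Nat.lt_of_succ_lt_succ hj)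

theorem and_split (a c b : ℕ) (hc : c < B) :
    a &&& (c + B * b) = (a % B &&& c) + B * (a / B &&& b) := by
  have h1 : (a &&& (c + B * b)) % B = a % B &&& c := by
    rw [Nat.and_mod_two_pow, Nat.add_mul_mod_self_left, Nat.mod_eq_of_lt hc]
  have h2 : (a &&& (c + B * b)) / B = a / B &&& b := by
    rw [Nat.and_div_two_pow, Nat.add_mul_div_left _ _ (by norm_num), Nat.div_eq_of_lt hc,
      Nat.zero_add]
  rw [← h1, ← h2, Nat.mod_add_div]

theorem slot_quot {a : ℕ} (h : a ≤ 104272) :
    a * 144632 / 2 ^ 22 = a / 29 ∧ a * 144632 / 2 ^ 22 < 4096 := by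
  constructor <;> omega

theorem quot_dig : ∀ (n : ℕ) (d : ℕ → ℕ), (∀ j, d j ≤ 104272) →
    ((dig n d * 144632) >>> 22) &&& (dig n fun _ => 4095) = dig n fun j => d j / 29
  | 0, _, _ => by simp [dig]
  | n + 1, d, hd => by
    obtain ⟨hq, hq'⟩ := slot_quot (hd 0)
    have hlt : d 0 / 29 < 4096 := hq ▸ hq'
    have ih := quot_dig n (fun j => d (j + 1)) fun j => hd (j + 1)
    rw [Nat.shiftRight_eq_div_pow] at ih
    rw [dig, dig, dig, Nat.shiftRight_eq_div_pow]
    generalize (dig n fun j => d (j + 1)) = X at ih ⊢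
    rw [and_split _ _ _ (by norm_num)]
    have e : (d 0 + B * X) * 144632 / 2 ^ 22 = d 0 / 29 + 4096 * (X * 144632) := by
      rw [← hq, show (d 0 + B * X) * 144632 = d 0 * 144632 + 2 ^ 22 * (4096 * (X * 144632)) by
        show (d 0 + 2 ^ 34 * X) * 144632 = _
        ring, Nat.add_mul_div_left _ _ (by norm_num)]
    rw [e]
    have e1 : (d 0 / 29 + 4096 * (X * 144632)) / B = X * 144632 / 2 ^ 22 := by
      rw [show B = 4096 * 2 ^ 22 by norm_num, ← Nat.div_div_eq_div_mul,
        Nat.add_mul_div_left (d 0 / 29) (X * 144632) (show 0 < 4096 by norm_num),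
        Nat.div_eq_of_lt hlt, Nat.zero_add]
    have e2 : (d 0 / 29 + 4096 * (X * 144632)) % B &&& 4095 = d 0 / 29 := by
      rw [show (4095 : ℕ) = 2 ^ 12 - 1 by norm_num, Nat.and_two_pow_sub_one_eq_mod,
        Nat.mod_mod_of_dvd _ (by norm_num), show (4096 : ℕ) = 2 ^ 12 by norm_num,
        Nat.add_mul_mod_self_left, Nat.mod_eq_of_lt (by simpa using hlt)]
    rw [e2, e1, ih]

theorem red_aux (n : ℕ) (d : ℕ → ℕ) (hd : ∀ j, d j ≤ 104272) :
    dig n d - 29 * (((dig n d * 144632) >>> 22) &&& (dig n fun _ => 4095)) =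
      dig n fun j => d j % 29 := by
  rw [quot_dig n d hd, dig_mul]
  have e : dig n d = (dig n fun j => d j % 29) + dig n fun j => 29 * (d j / 29) := by
    rw [dig_add]
    exact dig_congr _ _ _ fun j _ => (Nat.mod_add_div _ _).symm
  rw [e, Nat.add_sub_cancel]

theorem red_dig (d : ℕ → ℕ) (hd : ∀ j, d j ≤ 104272) :
    red (dig 133 d) = dig 133 fun j => d j % 29 :=
  red_aux 133 d hd

theorem get_tab (f : ℕ → ℕ) {i : ℕ} (hi : i < 133) : get (tab f) i = f i := by
  have h1 : i / 12 < 12 := by omega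
  have h2 : i % 12 < 12 := by omega
  simp [get, tab, h1, h2, Nat.div_add_mod]

theorem rep_oneS : Rep oneS 1 := fun i => by
  rw [oneS, get_tab _ i.isLt]
  refine dig_congr _ _ _ fun j hj => ?_
  rw [dif_pos hj, Matrix.one_apply]
  by_cases h : j = (i : ℕ)
  · rw [if_pos h, if_pos (Fin.ext h.symm)]
    rfl
  · rw [if_neg h, if_neg fun h' => h (congrArg Fin.val h').symm]
    rfl

/-- the sum of a sparse row against a vector of naturals -/
def rowSum (l : List ℕ) (f : ℕ → ℕ) : ℕ := (l.map fun p => p % 32 * f (p / 32)).sum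

theorem rowSum_le : ∀ (l : List ℕ) (f : ℕ → ℕ), (∀ k, f k ≤ 28) →
    rowSum l f ≤ (l.map fun p => p % 32).sum * 28
  | [], _, _ => by simp [rowSum]
  | p :: l, f, hf => by
    have h := rowSum_le l f hf
    simp only [rowSum, List.map_cons, List.sum_cons, Nat.add_mul] at h ⊢
    exact Nat.add_le_add (Nat.mul_le_mul_left _ (hf _)) h

theorem comb_eq {L : List (List ℕ)} {P : Matrix (Fin 133) (Fin 133) (ZMod 29)} (hL : Rep L P) :
    ∀ l : List ℕ, (∀ p ∈ l, p / 32 < 133) → comb L l = dig 133 fun j => rowSum l fun k =>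
      if hk : k < 133 then (if hj : j < 133 then (P ⟨k, hk⟩ ⟨j, hj⟩).val else 0) else 0
  | [], _ => by
    rw [comb]
    exact (dig_zero 133).symm
  | p :: l, hl => by
    have hp := hl p List.mem_cons_self
    rw [comb, comb_eq hL l fun q hq => hl q (List.mem_cons_of_mem _ hq),
      hL ⟨p / 32, hp⟩, dig_mul, dig_add]
    refine dig_congr _ _ _ fun j _ => ?_
    simp [rowSum, hp]

theorem sum_matOf {n : ℕ} (v : Fin n → ZMod 29) : ∀ l : List ℕ, (∀ p ∈ l, p / 32 < n) →
    (∑ k : Fin n, ((l.map fun p => if p / 32 = (k : ℕ) then ((p % 32 : ℕ) : ZMod 29) else 0).sum) *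
      v k) = (l.map fun p => ((p % 32 : ℕ) : ZMod 29) *
        if hk : p / 32 < n then v ⟨p / 32, hk⟩ else 0).sum
  | [], _ => by simp
  | p :: l, hl => by
    have hp := hl p List.mem_cons_self
    simp only [List.map_cons, List.sum_cons, add_mul, Finset.sum_add_distrib, dif_pos hp,
      sum_matOf v l fun q hq => hl q (List.mem_cons_of_mem _ hq)]
    congr 1
    rw [Finset.sum_eq_single (⟨p / 32, hp⟩ : Fin n), if_pos rfl]
    · intro k _ hk
      rw [if_neg fun h => hk (Fin.ext h.symm), zero_mul]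
    · exact fun h => absurd (Finset.mem_univ _) h

theorem rep_stepM {R L : List (List ℕ)} {P : Matrix (Fin 133) (Fin 133) (ZMod 29)}
    (hR : shapeOK R = true) (hL : Rep L P) : Rep (stepM R L) (matOf R * P) := fun i => by
  rw [stepM, get_tab _ i.isLt]
  have hl : ((R.getD i []).map fun p => p % 32).sum * 28 ≤ 104272 ∧
      ∀ p ∈ R.getD i [], p / 32 < 133 := by
    rcases Nat.lt_or_ge (i : ℕ) R.length with h | h
    · rw [List.getD_eq_getElem _ _ h]
      have := List.all_eq_true.mp hR _ (List.getElem_mem h)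
      simpa [Nat.blt, Nat.ble_eq] using this
    · rw [List.getD_eq_default _ _ h]
      simp
  rw [comb_eq hL _ hl.2, red_dig _ fun j => (rowSum_le _ _ fun k => ?_).trans hl.1]
  · refine dig_congr _ _ _ fun j hj => ?_
    rw [dif_pos hj, Matrix.mul_apply]
    simp only [matOf]
    rw [sum_matOf (fun k => P k ⟨j, hj⟩) _ hl.2, ← ZMod.val_natCast]
    congr 1
    rw [rowSum, Nat.cast_list_sum, List.map_map]
    refine congrArg List.sum (List.map_congr_left fun p hp => ?_)
    simp [hj, hl.2 p hp]
  · split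
    · split
      · exact Nat.le_of_lt_succ (ZMod.val_lt _)
      · exact Nat.zero_le _
    · exact Nat.zero_le _

theorem rep_runM (A : ℕ → List (List ℕ)) : ∀ w : List ℕ, (∀ x ∈ w, shapeOK (A x) = true) →
    Rep (runM A w) (w.map fun x => matOf (A x)).prod
  | [], _ => rep_oneS
  | x :: w, h => by
    rw [runM, List.map_cons, List.prod_cons]
    exact rep_stepM (h x List.mem_cons_self)
      (rep_runM A w fun y hy => h y (List.mem_cons_of_mem _ hy))

theorem rep_eq_of_same {L L' : List (List ℕ)} {P Q : Matrix (Fin 133) (Fin 133) (ZMod 29)}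
    (hL : Rep L P) (hL' : Rep L' Q) (h : sameS L L' = true) : P = Q := by
  refine Matrix.ext fun i j => ZMod.val_injective 29 ?_
  have e : get L i = get L' i :=
    Nat.eq_of_beq_eq_true (List.all_eq_true.mp h i (List.mem_range.mpr i.isLt))
  rw [hL i, hL' i] at e
  have hb : ∀ (M : Matrix (Fin 133) (Fin 133) (ZMod 29)) (k : ℕ),
      (if h : k < 133 then (M i ⟨k, h⟩).val else 0) < B := fun M k => by
    split
    · exact lt_trans (ZMod.val_lt _) (by norm_num)
    · norm_num
  have := dig_inj 133 _ _ (hb P) (hb Q) e j j.isLt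
  rwa [dif_pos j.isLt, dif_pos j.isLt] at this

theorem same_of_rep_eq {L L' : List (List ℕ)} {P : Matrix (Fin 133) (Fin 133) (ZMod 29)}
    (hL : Rep L P) (hL' : Rep L' P) : sameS L L' = true :=
  List.all_eq_true.mpr fun i hi => by
    have hi' := List.mem_range.mp hi
    rw [hL ⟨i, hi'⟩, hL' ⟨i, hi'⟩]
    exact Nat.beq_refl _

end CfsgLib.HN133
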