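import Cfsg.Agent.HN133.Cover
import Cfsg.Agent.HNCover80.Quotient

/-!
The bound on groups generated by three elements satisfying the first ten relations.
-/

set_option autoImplicit false

namespace CfsgLib.HN133

open CfsgLib.CosetEnum Cfsg

theorem tenBound : HNCover80.TenBound := by
  intro P _ x y z hr hgen
  obtain ⟨r1, r2, r3, r4, r5, r6, r7, r8, r9, r10⟩ := hr
  let φ : FreeGroup Spor.HN.Gen →* P := FreeGroup.lift fun g => match g with
    | .x => x
    | .y => y
    | .z => z
    | .t => 1
  have h : ∀ r ∈ Spor.HN.extra.take 10, φ r = 1 := by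
    intro r hr
    simp only [Spor.HN.extra, List.take_succ_cons, List.take_zero, List.mem_cons,
      List.not_mem_nil, or_false] at hr
    rcases hr with rfl | rfl | rfl | rfl | rfl | rfl | rfl | rfl | rfl | rfl <;>
      simp only [map_mul, map_pow, map_inv, φ, FreeGroup.lift_apply_of] <;> assumption
  have hx' : φ Spor.HN.x = x := FreeGroup.lift_apply_of
  have hy' : φ Spor.HN.y = y := FreeGroup.lift_apply_of
  have hz' : φ Spor.HN.z = z := FreeGroup.lift_apply_of
  have hw := rels_of_extra φ h
  rw [hx', hy', hz'] at hw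
  let f : P0 →* P := lift3 hw
  have hs : Function.Surjective f := by
    rw [← MonoidHom.range_eq_top, eq_top_iff, ← hgen, Subgroup.closure_le]
    rintro _ (rfl | rfl | rfl)
    exacts [⟨gx, lift3_x hw⟩, ⟨gy, lift3_y hw⟩, ⟨gz, lift3_z hw⟩]
  exact ⟨Finite.of_surjective f hs, (Nat.card_le_card_of_surjective f hs).trans card_P0.le⟩

end CfsgLib.HN133
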